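import Mathlib
import Groth.Agent.GenericFree.VarChange
import Groth.Agent.Calg3.DualTF

/-!
Generic freeness over a domain, elementwise: a finite module over a finite type algebra contains,
after inverting one nonzero element of the base, a free module with the same localization.
-/

universe u

namespace Groth.GenericFree

open MvPolynomial

variable {R : Type u} [CommRing R]

/-- `M` becomes free over `R` after inverting one nonzero element. -/
def GF (R : Type u) [CommRing R] (M : Type u) [AddCommGroup M] [Module R M] : Prop :=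
  ∃ f : R, f ≠ 0 ∧ ∃ (ι : Type u) (φ : (ι →₀ R) →ₗ[R] M), Function.Injective φ ∧
    ∀ m, ∃ k : ℕ, f ^ k • m ∈ LinearMap.range φ

variable {A M N : Type u} [AddCommGroup A] [Module R A] [AddCommGroup M] [Module R M]
  [AddCommGroup N] [Module R N]

theorem GF.free [Nontrivial R] [Module.Free R M] : GF R M :=
  ⟨1, one_ne_zero, _, (Module.Free.chooseBasis R M).repr.symm.toLinearMap, (Module.Free.chooseBasis R M).repr.symm.injective,
    fun m => ⟨0, (Module.Free.chooseBasis R M).repr m, by simp⟩⟩

theorem GF.of_equiv (h : GF R M) (e : M ≃ₗ[R] N) : GF R N := by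
  obtain ⟨f, hf, ι, φ, hφ, hs⟩ := h
  refine ⟨f, hf, ι, e.toLinearMap ∘ₗ φ, e.injective.comp hφ, fun n => ?_⟩
  obtain ⟨k, x, hx⟩ := hs (e.symm n)
  exact ⟨k, x, by simp [hx]⟩

/-- An injection with cokernel killed by powers of a nonzero `c` transports `GF`. -/
theorem GF.of_cofinal [IsDomain R] (h : GF R N) (g : N →ₗ[R] M) (hg : Function.Injective g) {c : R}
    (hc : c ≠ 0) (hs : ∀ m, ∃ k : ℕ, c ^ k • m ∈ LinearMap.range g) : GF R M := by
  obtain ⟨f, hf, ι, φ, hφ, hfs⟩ := h
  refine ⟨f * c, mul_ne_zero hf hc, ι, g ∘ₗ φ, hg.comp hφ, fun m => ?_⟩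
  obtain ⟨k, n, hn⟩ := hs m
  obtain ⟨l, x, hx⟩ := hfs n
  refine ⟨l + k, (f ^ k * c ^ l) • x, ?_⟩
  rw [map_smul, LinearMap.comp_apply, hx, map_smul, hn, smul_smul, smul_smul]
  congr 1
  ring

/-- `GF` is stable under extensions. -/
theorem GF.of_exact [IsDomain R] (i : A →ₗ[R] M) (p : M →ₗ[R] N) (hi : Function.Injective i)
    (hp : Function.Surjective p) (hex : Function.Exact i p) (hA : GF R A) (hN : GF R N) : GF R M := by
  obtain ⟨f, hf, ι, φ, hφ, hfs⟩ := hA
  obtain ⟨g, hg, κ, ψ, hψ, hgs⟩ := hN
  choose s hs using fun j : κ => hp (ψ (Finsupp.single j 1))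
  let lft : (κ →₀ R) →ₗ[R] M := Finsupp.linearCombination R s
  have hlft : p ∘ₗ lft = ψ := by
    apply Finsupp.lhom_ext'
    intro j
    apply LinearMap.ext_ring
    simp [lft, hs]
  let χ : ((ι ⊕ κ) →₀ R) →ₗ[R] M :=
    ((i ∘ₗ φ).coprod lft) ∘ₗ (Finsupp.sumFinsuppLEquivProdFinsupp R).toLinearMap
  refine ⟨f * g, mul_ne_zero hf hg, ι ⊕ κ, χ, ?_, fun m => ?_⟩
  · simp only [χ, LinearMap.coe_comp, LinearEquiv.coe_coe]
    refine Function.Injective.comp ?_ (LinearEquiv.injective _)
    rintro ⟨x, y⟩ ⟨x', y'⟩ he
    simp only [LinearMap.coprod_apply, LinearMap.comp_apply] at he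
    have h1 := congrArg p he
    simp only [map_add, hex.apply_apply_eq_zero, zero_add] at h1
    have hy : y = y' := hψ (by rw [← hlft]; exact h1)
    subst hy
    exact Prod.ext (hφ (hi (add_right_cancel he))) rfl
  · obtain ⟨k, y, hy⟩ := hgs (p m)
    obtain ⟨a, ha⟩ := (hex (g ^ k • m - lft y)).mp (by
      rw [map_sub, map_smul, show p (lft y) = ψ y from LinearMap.congr_fun hlft y, hy, sub_self])
    obtain ⟨l, x, hx⟩ := hfs a
    have h2 : (i (φ x)) + f ^ l • lft y = (f ^ l * g ^ k) • m := by
      rw [hx, map_smul, ha, smul_sub, sub_add_cancel, smul_smul]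
    refine ⟨l + k, (f ^ k * g ^ l) • (Finsupp.sumFinsuppLEquivProdFinsupp R).symm (x, f ^ l • y), ?_⟩
    rw [map_smul]
    simp only [χ, LinearMap.comp_apply, LinearEquiv.coe_coe, LinearEquiv.apply_symm_apply,
      LinearMap.coprod_apply, map_smul]
    rw [h2, smul_smul]
    congr 1
    ring

theorem GF.of_finite [IsDomain R] [Module.Finite R M] : GF R M := by
  obtain ⟨g, h, d, hd, hg, h1, -⟩ := Groth.Calg3.exists_finrank_pair R M
  exact GF.of_cofinal GF.free g hg hd fun m => ⟨1, h m, by rw [h1, pow_one]⟩

/-- Saturation step: if a nonzero constant times a power of `x` is, on the generators, a combination of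
lower powers, everything is in the span of the lower powers up to powers of the constant. -/
theorem exists_pow_smul_mem {P P' : Type u} [CommRing P] [CommRing P'] [Algebra R P]
    [Algebra R P'] {M : Type u} [AddCommGroup M] [Module P M]
    [Module R M] [IsScalarTower R P M] [Module P' M]
    (N : Submodule P' M) (ι : Polynomial P' →ₐ[R] P) (hι : Function.Surjective ι)
    (hsm : ∀ (a : P') (m : M), a • m = ι (Polynomial.C a) • m) (q : Polynomial P') (c : R)
    (hlead : q.leadingCoeff = algebraMap R P' c) (s : Set M) (hs : Submodule.span P s = ⊤)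
    (hq : ∀ m ∈ s, ι q • m = 0) (hN : ∀ m ∈ s, ∀ i < q.natDegree, ι (Polynomial.X ^ i) • m ∈ N) :
    ∀ m : M, ∃ k : ℕ, c ^ k • m ∈ N := by
  have hc : ∀ (k : ℕ) (m : M), c ^ k • m = algebraMap R P' c ^ k • m := fun k m => by
    rw [hsm, map_pow, map_pow, ← Polynomial.algebraMap_apply, AlgHom.commutes, ← map_pow, algebraMap_smul]
  let S : Submodule P' M :=
    { carrier := {m | ∃ k : ℕ, c ^ k • m ∈ N}
      add_mem' := by
        rintro a b ⟨k, hk⟩ ⟨l, hl⟩
        refine ⟨k + l, ?_⟩
        rw [smul_add]
        refine N.add_mem ?_ ?_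
        · rw [pow_add, mul_comm, mul_smul, hc l]; exact N.smul_mem _ hk
        · rw [pow_add, mul_smul, hc k]; exact N.smul_mem _ hl
      zero_mem' := ⟨0, by simp⟩
      smul_mem' := by
        rintro a m ⟨k, hk⟩
        exact ⟨k, by rw [hc k, smul_comm, ← hc k]; exact N.smul_mem _ hk⟩ }
  have hNS : N ≤ S := fun m hm => ⟨0, by simpa using hm⟩
  have hgen : ∀ m ∈ s, ∀ i, ι (Polynomial.X ^ i) • m ∈ S := by
    intro m hm i
    induction i using Nat.strong_induction_on with
    | h i ih =>
      by_cases hi : i < q.natDegree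
      · exact hNS (hN m hm i hi)
      · have hz : ι (Polynomial.X ^ (i - q.natDegree) * q) • m = 0 := by rw [map_mul, mul_smul, hq m hm, smul_zero]
        nth_rewrite 2 [q.as_sum_range] at hz
        rw [Finset.mul_sum, map_sum, Finset.sum_smul, Finset.sum_range_succ] at hz
        have ht : ∀ j, ι (Polynomial.X ^ (i - q.natDegree) * Polynomial.monomial j (q.coeff j)) • m =
            q.coeff j • ι (Polynomial.X ^ (i - q.natDegree + j)) • m := fun j => by
          rw [hsm, smul_smul, ← map_mul, ← Polynomial.C_mul_X_pow_eq_monomial, pow_add]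
          congr 2; ring
        simp only [ht] at hz
        rw [Nat.sub_add_cancel (Nat.le_of_not_lt hi), Polynomial.coeff_natDegree, hlead,
          add_eq_zero_iff_eq_neg'] at hz
        have h1 : algebraMap R P' c • ι (Polynomial.X ^ i) • m ∈ S := by
          rw [hz]
          exact S.neg_mem (S.sum_mem fun j hj => S.smul_mem _ (ih _ (by
            have := Finset.mem_range.mp hj; omega)))
        obtain ⟨k, hk⟩ := h1
        refine ⟨k + 1, ?_⟩
        rw [pow_succ, mul_smul, ← pow_one c, hc 1, pow_one, pow_one]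
        exact hk
  intro m
  suffices hall : ∀ p : P, ∀ x ∈ s, p • x ∈ S by
    have key : ∀ x ∈ Submodule.span P s, ∀ p : P, p • x ∈ S := by
      intro x hx
      induction hx using Submodule.span_induction with
      | mem y hy => exact fun p => hall p y hy
      | zero => exact fun p => by rw [smul_zero]; exact S.zero_mem
      | add y z _ _ hy hz => exact fun p => by rw [smul_add]; exact S.add_mem (hy p) (hz p)
      | smul a y _ hy => exact fun p => by rw [smul_smul]; exact hy _
    have h1 := key m (hs ▸ trivial) 1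
    rw [one_smul] at h1
    exact h1
  intro p x hx'
  obtain ⟨p, rfl⟩ := hι p
  induction p using Polynomial.induction_on' with
  | add a b ha hb => rw [map_add, add_smul]; exact S.add_mem ha hb
  | monomial i a =>
    rw [← Polynomial.C_mul_X_pow_eq_monomial, map_mul, mul_smul, ← hsm]
    exact S.smul_mem _ (hgen x hx' i)

/-- Generic freeness for finite modules over polynomial rings over a domain. -/
theorem gf_of_finite_mvPolynomial [IsDomain R] :
    ∀ (n : ℕ) (M : Type u) [AddCommGroup M] [Module R M] [Module (MvPolynomial (Fin n) R) M]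
      [IsScalarTower R (MvPolynomial (Fin n) R) M] [Module.Finite (MvPolynomial (Fin n) R) M], GF R M := by
  intro n
  induction n with
  | zero =>
    intro M _ _ _ _ _
    have : Module.Finite R (MvPolynomial (Fin 0) R) :=
      Module.Finite.equiv (MvPolynomial.isEmptyAlgEquiv R (Fin 0)).symm.toLinearEquiv
    have : Module.Finite R M := Module.Finite.trans (MvPolynomial (Fin 0) R) M
    exact GF.of_finite
  | succ n ih =>
    intro M _ _ _ _ _
    classical
    set P := MvPolynomial (Fin (n + 1)) R
    set P' := MvPolynomial (Fin n) R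
    obtain ⟨g, h, d, hd, hg, h1, -⟩ := Groth.Calg3.exists_finrank_pair P M
    let U := LinearMap.range g
    refine GF.of_exact (g.restrictScalars R) (U.mkQ.restrictScalars R) hg U.mkQ_surjective ?_ GF.free ?_
    · intro x
      exact Submodule.Quotient.mk_eq_zero U
    have hdC : ∀ z : M ⧸ U, d • z = 0 := fun z => by
      induction z using Submodule.Quotient.induction_on with
      | _ z => exact (Submodule.Quotient.mk_eq_zero U).mpr ⟨h z, h1 z⟩
    obtain ⟨c, hc, hlead⟩ := exists_T_leadingCoeff_eq_C d hd
    let e : P ≃ₐ[R] Polynomial P' := (T d).trans (finSuccEquiv R n)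
    let _ : Module P' (M ⧸ U) := Module.compHom _ (e.symm.toAlgHom.toRingHom.comp (Polynomial.C : P' →+* Polynomial P'))
    have hsm : ∀ (a : P') (z : M ⧸ U), a • z = e.symm (Polynomial.C a) • z := fun a z => rfl
    have : IsScalarTower R P' (M ⧸ U) := IsScalarTower.of_algebraMap_smul fun r z => by
      rw [hsm, ← Polynomial.algebraMap_apply, AlgEquiv.commutes, algebraMap_smul]
    obtain ⟨s, hs⟩ := (Module.Finite.fg_top : (⊤ : Submodule P (M ⧸ U)).FG)
    let N : Submodule P' (M ⧸ U) := Submodule.span P'
      ↑((s ×ˢ Finset.range (e d).natDegree).image fun p => e.symm (Polynomial.X ^ p.2) • p.1)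
    have : Module.Finite P' N := Module.Finite.span_finset P' _
    have hN := exists_pow_smul_mem (R := R) N e.symm.toAlgHom e.symm.surjective hsm (e d) c
      hlead s hs
      (fun m _ => by simpa using hdC m)
      (fun m hm i hi => Submodule.subset_span (Finset.mem_coe.mpr (Finset.mem_image.mpr
        ⟨(m, i), Finset.mem_product.mpr ⟨hm, Finset.mem_range.mpr hi⟩, rfl⟩)))
    refine GF.of_cofinal (ih N) (N.subtype.restrictScalars R) N.subtype_injective hc fun z => ?_
    obtain ⟨k, hk⟩ := hN z
    exact ⟨k, ⟨_, hk⟩, rfl⟩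

/-- **Generic freeness**: a finite module over a finite type algebra over a domain. -/
theorem gf_of_finiteType [IsDomain R] (S : Type u) [CommRing S] [Algebra R S] [Algebra.FiniteType R S]
    (M : Type u) [AddCommGroup M] [Module R M] [Module S M] [IsScalarTower R S M] [Module.Finite S M] :
    GF R M := by
  obtain ⟨n, f, hf⟩ := Algebra.FiniteType.iff_quotient_mvPolynomial''.mp ‹Algebra.FiniteType R S›
  let _ := f.toRingHom.toAlgebra
  let _ : Module (MvPolynomial (Fin n) R) M := Module.compHom M f.toRingHom
  have : IsScalarTower R (MvPolynomial (Fin n) R) M := IsScalarTower.of_algebraMap_smul fun r m => by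
    show f (algebraMap R _ r) • m = r • m
    rw [AlgHom.commutes, algebraMap_smul]
  have : IsScalarTower (MvPolynomial (Fin n) R) S M := IsScalarTower.of_algebraMap_smul fun _ _ => rfl
  have : Module.Finite (MvPolynomial (Fin n) R) S := Module.Finite.of_surjective (Algebra.linearMap _ S) hf
  have : Module.Finite (MvPolynomial (Fin n) R) M := Module.Finite.trans S M
  exact gf_of_finite_mvPolynomial n M

end Groth.GenericFree
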