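import Mathlib
import Groth.Agent.GenericFree.Basic

/-!
Generic freeness: localized modules are free, and presentations become finite after inverting one
nonzero element of the base domain.
-/

universe u

namespace Groth.GenericFree

open MvPolynomial

variable {R : Type u} [CommRing R]

/-- `GF` gives an `f` with `M_f` free and every torsion element killed by a power of `f`. -/
theorem GF.exists_free [IsDomain R] {M : Type u} [AddCommGroup M] [Module R M] (h : GF R M) :
    ∃ f : R, f ≠ 0 ∧ (∀ g : R, g ≠ 0 → f ∣ g →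
        Module.Free (Localization.Away g) (LocalizedModule (Submonoid.powers g) M)) ∧
      (∀ (r : R) (m : M), r ≠ 0 → r • m = 0 → ∃ k : ℕ, f ^ k • m = 0) := by
  obtain ⟨f, hf, ι, φ, hφ, hs⟩ := h
  refine ⟨f, hf, fun g hg ⟨a, ha⟩ => ?_, fun r m hr hrm => ?_⟩
  · let S := Submonoid.powers g
    have hb : Function.Bijective (LocalizedModule.map S φ) := by
      refine ⟨LocalizedModule.map_injective S φ hφ, fun z => ?_⟩
      induction z using LocalizedModule.induction_on with
      | h m s =>
        obtain ⟨k, x, hx⟩ := hs m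
        refine ⟨LocalizedModule.mk (a ^ k • x) (⟨g ^ k, k, rfl⟩ * s), ?_⟩
        rw [LocalizedModule.map_mk, map_smul, hx, LocalizedModule.mk_eq]
        exact ⟨1, by simp only [one_smul, Submonoid.smul_def, Submonoid.coe_mul, smul_smul]; congr 1; rw [ha]; ring⟩
    have : Module.Free (Localization.Away g) (LocalizedModule S (ι →₀ R)) :=
      Module.free_of_isLocalizedModule S (LocalizedModule.mkLinearMap S _)
    exact Module.Free.of_equiv (LinearEquiv.ofBijective _ hb)
  · obtain ⟨k, x, hx⟩ := hs m
    refine ⟨k, ?_⟩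
    have h1 : φ (r • x) = 0 := by rw [map_smul, hx, smul_comm, hrm, smul_zero]
    have h2 : r • x = 0 := hφ (by rw [h1, map_zero])
    have h3 : x = 0 := Finsupp.ext fun i => by
      simpa [hr] using DFunLike.congr_fun h2 i
    rw [← hx, h3, map_zero]

set_option maxHeartbeats 1000000 in
/-- A submodule of a finite free module over a polynomial ring over a domain has a finitely generated
submodule with the same tensor with the fraction field. -/
theorem exists_fg_le_generic [IsDomain R] {n m : ℕ}
    (U : Submodule (MvPolynomial (Fin n) R) (Fin m → MvPolynomial (Fin n) R)) :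
    ∃ U' ≤ U, U'.FG ∧ ∀ u ∈ U, ∃ r : R, r ≠ 0 ∧ r • u ∈ U' := by
  classical
  set P := MvPolynomial (Fin n) R
  set K := FractionRing R
  set Q := MvPolynomial (Fin n) K
  let φ : P →+* Q := MvPolynomial.map (algebraMap R K)
  have hφ : Function.Injective φ := MvPolynomial.map_injective _ (IsFractionRing.injective R K)
  let ψ : (Fin m → P) → (Fin m → Q) := fun v i => φ (v i)
  obtain ⟨t, ht, hts⟩ := Submodule.fg_span_iff_fg_span_finset_subset (ψ '' (U : Set _)) |>.mp
    (IsNoetherian.noetherian (Submodule.span Q (ψ '' (U : Set _))))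
  choose u huU hu using fun x : t => ht x.2
  refine ⟨Submodule.span P (Set.range u), Submodule.span_le.mpr (by rintro _ ⟨x, rfl⟩; exact huU x),
    Submodule.fg_span (Set.finite_range u), fun v hv => ?_⟩
  have hvm : ψ v ∈ Submodule.span Q (Set.range fun x : t => ψ (u x)) := by
    have : Set.range (fun x : t => ψ (u x)) = (t : Set (Fin m → Q)) := by
      simp only [hu]; exact Subtype.range_coe
    rw [this, ← hts]
    exact Submodule.subset_span ⟨v, hv, rfl⟩
  obtain ⟨q, hq⟩ := (Submodule.mem_span_range_iff_exists_fun Q).mp hvm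
  let _ : Algebra P Q := φ.toAlgebra
  have : IsLocalization ((nonZeroDivisors R).map (C (σ := Fin n))) Q := by
    have := MvPolynomial.isLocalization (σ := Fin n) (nonZeroDivisors R) K
    exact this
  obtain ⟨⟨b, hb⟩, hb'⟩ := IsLocalization.exist_integer_multiples_of_finite
    ((nonZeroDivisors R).map (C (σ := Fin n))) q
  obtain ⟨r, hr, rfl⟩ := hb
  choose p hp using hb'
  refine ⟨r, nonZeroDivisors.ne_zero hr, ?_⟩
  have : r • v = ∑ x, p x • u x := by
    funext i
    apply hφ
    have h1 := congrFun hq i
    simp only [Finset.sum_apply, Pi.smul_apply, smul_eq_mul, map_sum, map_mul, ψ] at h1 ⊢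
    rw [Algebra.smul_def, map_mul, show algebraMap R P r = C r from rfl, ← h1, Finset.mul_sum]
    refine Finset.sum_congr rfl fun x _ => ?_
    rw [show φ (p x) = algebraMap P Q (p x) from rfl, hp x, Algebra.smul_def, mul_assoc]
    rfl
  rw [this]
  exact Submodule.sum_mem _ fun x _ => Submodule.smul_mem _ _ (Submodule.subset_span ⟨x, rfl⟩)

/-- Over a domain, after inverting one element a submodule of a finite free module over a polynomial
ring is finitely generated. -/
theorem exists_fg_le_saturating [IsDomain R] {n m : ℕ}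
    (U : Submodule (MvPolynomial (Fin n) R) (Fin m → MvPolynomial (Fin n) R)) :
    ∃ f : R, f ≠ 0 ∧ ∃ U' ≤ U, U'.FG ∧ ∀ g : R, f ∣ g → ∀ u ∈ U, ∃ k : ℕ, g ^ k • u ∈ U' := by
  obtain ⟨U', hle, hfg, hU'⟩ := exists_fg_le_generic U
  obtain ⟨f, hf, -, htor⟩ := (gf_of_finite_mvPolynomial (R := R) n ((Fin m → MvPolynomial (Fin n) R) ⧸ U')).exists_free
  refine ⟨f, hf, U', hle, hfg, fun g ⟨a, ha⟩ u hu => ?_⟩
  obtain ⟨r, hr, hru⟩ := hU' u hu
  obtain ⟨k, hk⟩ := htor r (Submodule.Quotient.mk u) hr (by
    rw [← Submodule.Quotient.mk_smul, Submodule.Quotient.mk_eq_zero]; exact hru)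
  rw [← Submodule.Quotient.mk_smul, Submodule.Quotient.mk_eq_zero] at hk
  refine ⟨k, ?_⟩
  rw [ha, mul_comm, mul_pow, mul_smul]
  exact U'.smul_of_tower_mem _ hk

variable (S : Type u) [CommRing S] [Algebra R S] [Algebra.FiniteType R S]

/-- The relations of a finite module over a finite type algebra, after inverting one element. -/
theorem exists_fg_relations [IsDomain R] (M : Type u) [AddCommGroup M] [Module R M] [Module S M]
    [IsScalarTower R S M] [Module.Finite S M] :
    ∃ f : R, f ≠ 0 ∧ ∃ (m : ℕ) (π : (Fin m → S) →ₗ[S] M) (U' : Submodule S (Fin m → S)),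
      Function.Surjective π ∧ U'.FG ∧ U' ≤ LinearMap.ker π ∧
      ∀ g : R, f ∣ g → ∀ u ∈ LinearMap.ker π, ∃ k : ℕ, g ^ k • u ∈ U' := by
  obtain ⟨n, φ, hφ⟩ := Algebra.FiniteType.iff_quotient_mvPolynomial''.mp ‹Algebra.FiniteType R S›
  obtain ⟨m, π, hπ⟩ := Module.Finite.exists_fin' S M
  set P := MvPolynomial (Fin n) R
  let _ := φ.toRingHom.toAlgebra
  have : IsScalarTower R P S := IsScalarTower.of_algebraMap_eq fun r => (φ.commutes r).symm
  let ψ : (Fin m → P) →ₗ[P] (Fin m → S) := LinearMap.pi fun i => Algebra.linearMap P S ∘ₗ LinearMap.proj i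
  have hψ : Function.Surjective ψ := fun v => by
    choose p hp using fun i => hφ (v i)
    exact ⟨p, funext hp⟩
  let U : Submodule P (Fin m → P) := Submodule.comap ψ ((LinearMap.ker π).restrictScalars P)
  obtain ⟨f, hf, U', hle, hfg, hsat⟩ := exists_fg_le_saturating U
  obtain ⟨t, ht⟩ := hfg
  refine ⟨f, hf, m, π, Submodule.span S (ψ '' (t : Set _)), hπ, Submodule.fg_span (t.finite_toSet.image _),
    Submodule.span_le.mpr ?_, fun g hg u hu => ?_⟩
  · rintro _ ⟨x, hx, rfl⟩
    exact hle (ht ▸ Submodule.subset_span hx)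
  · obtain ⟨v, rfl⟩ := hψ u
    obtain ⟨k, hk⟩ := hsat g hg v hu
    refine ⟨k, ?_⟩
    rw [← LinearMap.map_smul_of_tower ψ]
    rw [← ht] at hk
    exact Submodule.span_le_restrictScalars P S _ (by rw [Submodule.span_image]; exact Submodule.mem_map_of_mem hk)

variable {S}
omit [Algebra.FiniteType R S] in

/-- Localized at such an element, the module is finitely presented over the localized algebra. -/
theorem finitePresentation_localizedModule {M : Type u} [AddCommGroup M] [Module R M] [Module S M]
    [IsScalarTower R S M] {m : ℕ} (π : (Fin m → S) →ₗ[S] M) (hπ : Function.Surjective π)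
    (U' : Submodule S (Fin m → S)) (hfg : U'.FG) (hle : U' ≤ LinearMap.ker π) (g : R)
    (hsat : ∀ u ∈ LinearMap.ker π, ∃ k : ℕ, g ^ k • u ∈ U') :
    Module.FinitePresentation (Localization.Away (algebraMap R S g))
      (LocalizedModule (Submonoid.powers (algebraMap R S g)) M) := by
  have : Module.FinitePresentation S ((Fin m → S) ⧸ U') :=
    Module.finitePresentation_of_surjective _ U'.mkQ_surjective (by rwa [Submodule.ker_mkQ])
  let θ : ((Fin m → S) ⧸ U') →ₗ[S] M := U'.liftQ π hle
  let T := Submonoid.powers (algebraMap R S g)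
  have hθs : Function.Surjective θ := fun x => by
    obtain ⟨v, rfl⟩ := hπ x
    exact ⟨Submodule.Quotient.mk v, rfl⟩
  have hb : Function.Bijective (LocalizedModule.map T θ) := by
    refine ⟨?_, LocalizedModule.map_surjective T θ hθs⟩
    rw [injective_iff_map_eq_zero]
    intro z hz
    induction z using LocalizedModule.induction_on with
    | h v s =>
      obtain ⟨v, rfl⟩ := Submodule.Quotient.mk_surjective U' v
      rw [LocalizedModule.map_mk] at hz
      obtain ⟨⟨_, a, rfl⟩, hc⟩ := LocalizedModule.mk_eq.mp (hz.trans (LocalizedModule.zero_mk s).symm)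
      simp only [smul_zero, Submonoid.smul_def, θ, Submodule.liftQ_apply] at hc
      have hker : algebraMap R S g ^ a • (s : S) • v ∈ LinearMap.ker π := by
        rw [LinearMap.mem_ker, map_smul, map_smul]; exact hc
      obtain ⟨k, hk⟩ := hsat _ hker
      rw [← algebraMap_smul S, map_pow, smul_smul, ← pow_add] at hk
      rw [← LocalizedModule.zero_mk s, LocalizedModule.mk_eq]
      refine ⟨⟨_, k + a, rfl⟩, ?_⟩
      simp only [smul_zero, Submonoid.smul_def, ← Submodule.Quotient.mk_smul]
      exact (Submodule.Quotient.mk_eq_zero U').mpr hk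
  exact Module.FinitePresentation.of_equiv (LinearEquiv.ofBijective _ hb)

/-- Localized at a suitable element, a finite type algebra over a domain is finitely presented. -/
theorem exists_finitePresentation_tensor [IsDomain R] (S : Type u) [CommRing S] [Algebra R S]
    [Algebra.FiniteType R S] :
    ∃ f : R, f ≠ 0 ∧ ∀ g : R, f ∣ g →
      Algebra.FinitePresentation (Localization.Away g) (TensorProduct R (Localization.Away g) S) := by
  obtain ⟨n, φ, hφ⟩ := Algebra.FiniteType.iff_quotient_mvPolynomial''.mp ‹Algebra.FiniteType R S›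
  set P := MvPolynomial (Fin n) R
  let U : Submodule P (Fin 1 → P) := Submodule.comap (LinearMap.proj 0) (RingHom.ker φ.toRingHom)
  obtain ⟨f, hf, U', hle, hfg, hsat⟩ := exists_fg_le_saturating U
  refine ⟨f, hf, fun g hg => ?_⟩
  set A := Localization.Away g
  let ψ := Algebra.TensorProduct.map (AlgHom.id A A) φ
  let i : P →ₐ[R] TensorProduct R A P := Algebra.TensorProduct.includeRight
  let J : Ideal P := Submodule.map (LinearMap.proj (R := P) (φ := fun _ : Fin 1 => P) 0) U'
  have hJ : J.FG := hfg.map _
  have hker : RingHom.ker ψ.toRingHom = J.map i := by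
    have h0 : RingHom.ker ψ.toRingHom = (RingHom.ker φ).map i := Algebra.TensorProduct.lTensor_ker φ hφ
    rw [h0]
    refine le_antisymm (Ideal.map_le_iff_le_comap.mpr fun p hp => ?_) (Ideal.map_mono ?_)
    · obtain ⟨k, hk⟩ := hsat g hg (fun _ => p) hp
      have h1 : i (g ^ k • p) ∈ J.map i := Ideal.mem_map_of_mem _ ⟨_, hk, rfl⟩
      rw [map_smul, ← algebraMap_smul A] at h1
      replace h1 := Eq.subst (motive := fun z => z ∈ J.map i) (Algebra.smul_def (A := TensorProduct R A P) _ _) h1
      exact Ideal.mem_comap.mpr ((Ideal.unit_mul_mem_iff_mem _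
        ((IsLocalization.map_units A (⟨g ^ k, k, rfl⟩ : Submonoid.powers g)).map (algebraMap A _))).mp h1)
    · rintro _ ⟨x, hx, rfl⟩
      exact hle hx
  have : Algebra.FinitePresentation A (TensorProduct R A P) := inferInstance
  exact Algebra.FinitePresentation.of_surjective (f := ψ)
    (LinearMap.lTensor_surjective A hφ) (hker ▸ Ideal.FG.map hJ _)

end Groth.GenericFree
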